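import Mathlib

/-!
# A uniformizer is a `p`-basis of a discrete valuation ring with `[k : k^p] = p`
-/

set_option autoImplicit false
set_option linter.style.haveILetI false

universe u

namespace Groth.Agent.PBasisDVR

variable (p : ℕ) [Fact p.Prime] {R : Type u} [CommRing R] [IsDomain R] [IsDiscreteValuationRing R]
  [CharP R p] {π : R} (hπ : Irreducible π)

include hπ

theorem dvd_coeff (b : Fin p → R) (h : π ^ p ∣ ∑ i : Fin p, π ^ (i : ℕ) * b i ^ p) :
    ∀ i, π ∣ b i := by
  intro i
  induction i using WellFoundedLT.induction with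
  | ind i ih =>
    have hsum : π ^ ((i : ℕ) + 1) ∣ π ^ (i : ℕ) * b i ^ p := by
      rw [← Finset.add_sum_erase _ _ (Finset.mem_univ i)] at h
      refine (dvd_add_left (Finset.dvd_sum fun j hj => ?_)).1
        ((pow_dvd_pow π (Nat.succ_le_of_lt i.2)).trans h)
      rcases lt_or_gt_of_ne (Finset.ne_of_mem_erase hj) with hlt | hgt
      · exact dvd_mul_of_dvd_right ((pow_dvd_pow π (Nat.succ_le_of_lt i.2)).trans
          (pow_dvd_pow_of_dvd (ih j hlt) p)) _
      · exact dvd_mul_of_dvd_left (pow_dvd_pow π (Nat.succ_le_of_lt hgt)) _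
    rw [pow_succ, mul_dvd_mul_iff_left (pow_ne_zero _ hπ.ne_zero)] at hsum
    exact hπ.prime.dvd_of_dvd_pow hsum

theorem unique_aux (b : Fin p → R) (h : ∑ i : Fin p, π ^ (i : ℕ) * b i ^ p = 0) : b = 0 := by
  have key : ∀ (n : ℕ) (b : Fin p → R), ∑ i : Fin p, π ^ (i : ℕ) * b i ^ p = 0 → ∀ i, π ^ n ∣ b i := by
    intro n
    induction n with
    | zero => exact fun b _ i => by simp
    | succ n ih =>
      intro b hb i
      choose c hc using dvd_coeff p hπ b (by rw [hb]; exact dvd_zero _)
      have hc0 : ∑ i : Fin p, π ^ (i : ℕ) * c i ^ p = 0 := by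
        have : π ^ p * ∑ i : Fin p, π ^ (i : ℕ) * c i ^ p = 0 := by
          rw [← hb, Finset.mul_sum]
          refine Finset.sum_congr rfl fun i _ => ?_
          rw [hc i, mul_pow]; ring
        exact (mul_eq_zero.1 this).resolve_left (pow_ne_zero _ hπ.ne_zero)
      rw [hc i, pow_succ']
      exact mul_dvd_mul_left π (ih c hc0 i)
  funext i
  by_contra hne
  obtain ⟨n, v, hv⟩ := IsDiscreteValuationRing.eq_unit_mul_pow_irreducible hne hπ
  have := key (n + 1) b h i
  rw [hv, Units.dvd_mul_left, pow_dvd_pow_iff hπ.ne_zero hπ.not_isUnit] at this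
  omega

theorem exists_decomp (kp : Subfield (FractionRing R))
    (hkp : ∀ x : FractionRing R, x ∈ kp ↔ ∃ y : FractionRing R, y ^ p = x)
    (hdeg : Module.finrank kp (FractionRing R) = p) (r : R) :
    ∃ c : Fin p → R, r = ∑ i : Fin p, π ^ (i : ℕ) * c i ^ p := by
  classical
  let K := FractionRing R
  let e : R →+* K := algebraMap R K
  have hp := (Fact.out : p.Prime)
  have hinj : Function.Injective e := IsFractionRing.injective R K
  haveI : CharP K p := charP_of_injective_ringHom hinj p
  -- numerators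
  have hclear : ∀ c : Fin p → K, ∃ N : ℕ, ∃ b : Fin p → R, ∀ i, e π ^ N * c i = e (b i) := by
    intro c
    obtain ⟨s, hs⟩ := IsLocalization.exist_integer_multiples_of_finite (nonZeroDivisors R) c
    obtain ⟨n, v, hv⟩ := IsDiscreteValuationRing.eq_unit_mul_pow_irreducible
      (nonZeroDivisors.ne_zero s.2) hπ
    choose b hb using hs
    refine ⟨n, fun i => (v⁻¹ : Rˣ) * b i, fun i => ?_⟩
    have : (s : R) • c i = e (b i) := (hb i).symm
    rw [map_mul, ← this, Algebra.smul_def, ← mul_assoc, ← map_mul, hv, ← mul_assoc, Units.inv_mul,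
      one_mul, map_pow]
  -- linear independence
  have hli : LinearIndependent kp (fun i : Fin p => e π ^ (i : ℕ)) := by
    rw [Fintype.linearIndependent_iff]
    intro g hg
    choose y hy using fun i => (hkp (g i)).1 (g i).2
    obtain ⟨N, b, hb⟩ := hclear y
    have hb0 : b = 0 := by
      refine unique_aux p hπ b (hinj ?_)
      rw [map_sum, map_zero]
      have : ∀ i : Fin p, e (π ^ (i : ℕ) * b i ^ p) = (e π ^ N) ^ p * (g i • e π ^ (i : ℕ)) := fun i => by
        rw [map_mul, map_pow, map_pow, ← hb, mul_pow, hy, Subfield.smul_def, smul_eq_mul]; ring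
      simp only [this]
      rw [← Finset.mul_sum, hg, mul_zero]
    intro i
    have h0 := hb i
    rw [hb0, Pi.zero_apply, map_zero] at h0
    have hyi : y i = 0 := (mul_eq_zero.1 h0).resolve_left (pow_ne_zero _ ((map_ne_zero_iff e hinj).2 hπ.ne_zero))
    exact Subtype.ext (by rw [← hy i, hyi, zero_pow hp.ne_zero]; rfl)
  haveI : FiniteDimensional kp (FractionRing R) :=
    Module.finite_of_finrank_pos (by rw [hdeg]; exact hp.pos)
  have hspan := hli.span_eq_top_of_card_eq_finrank' (by rw [Fintype.card_fin, hdeg])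
  obtain ⟨g, hg⟩ := (Submodule.mem_span_range_iff_exists_fun kp).1
    (hspan ▸ Submodule.mem_top : e r ∈ Submodule.span kp (Set.range fun i : Fin p => e π ^ (i : ℕ)))
  choose y hy using fun i => (hkp (g i)).1 (g i).2
  obtain ⟨N, b, hb⟩ := hclear y
  have hdec : π ^ (p * N) * r = ∑ i : Fin p, π ^ (i : ℕ) * b i ^ p := by
    refine hinj ?_
    rw [map_mul, map_pow, map_sum, ← hg, Finset.mul_sum]
    refine Finset.sum_congr rfl fun i _ => ?_
    rw [map_mul, map_pow, map_pow, ← hb, mul_pow, hy, Subfield.smul_def, smul_eq_mul, ← pow_mul,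
      mul_comm N p]
    ring
  have key : ∀ (N : ℕ) (b : Fin p → R), π ^ (p * N) * r = ∑ i : Fin p, π ^ (i : ℕ) * b i ^ p →
      ∃ c : Fin p → R, r = ∑ i : Fin p, π ^ (i : ℕ) * c i ^ p := by
    intro N
    induction N with
    | zero => exact fun b h => ⟨b, by simpa using h⟩
    | succ N ih =>
      intro b h
      choose c hc using dvd_coeff p hπ b (by
        rw [← h, mul_add_one, pow_add]
        exact dvd_mul_of_dvd_left (dvd_mul_left _ _) _)
      refine ih c (mul_left_cancel₀ (pow_ne_zero p hπ.ne_zero) ?_)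
      rw [← mul_assoc, ← pow_add, add_comm, ← mul_add_one, h, Finset.mul_sum]
      refine Finset.sum_congr rfl fun i _ => ?_
      rw [hc i, mul_pow]; ring
  exact key N b hdec

theorem existsUnique_decomp (kp : Subfield (FractionRing R))
    (hkp : ∀ x : FractionRing R, x ∈ kp ↔ ∃ y : FractionRing R, y ^ p = x)
    (hdeg : Module.finrank kp (FractionRing R) = p) (r : R) :
    ∃! c : Fin p → R, r = ∑ i : Fin p, π ^ (i : ℕ) * c i ^ p := by
  obtain ⟨c, hc⟩ := exists_decomp p hπ kp hkp hdeg r
  refine ⟨c, hc, fun d hd => ?_⟩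
  refine sub_eq_zero.1 (unique_aux p hπ (d - c) ?_)
  simp only [Pi.sub_apply, sub_pow_char, mul_sub, Finset.sum_sub_distrib, ← hd, ← hc, sub_self]

theorem bijective_smul_D (h : ∀ r : R, ∃! c : Fin p → R, r = ∑ i : Fin p, π ^ (i : ℕ) * c i ^ p) :
    Function.Bijective (fun r : R => r • KaehlerDifferential.D ℤ R π) := by
  classical
  have hp := (Fact.out : p.Prime)
  choose c hc huniq using fun r => h r
  simp only at hc huniq
  let t : ℕ → R → R := fun n a => (n : R) * π ^ (n - 1) * a ^ p
  let d : R → R := fun r => ∑ i : Fin p, t i (c r i)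
  have hd_add : ∀ r s, d (r + s) = d r + d s := by
    intro r s
    have : c (r + s) = c r + c s := (huniq _ _ (by
      simp only [Pi.add_apply, add_pow_char, mul_add, Finset.sum_add_distrib, ← hc])).symm
    simp only [d, t, this, Pi.add_apply, add_pow_char, mul_add, Finset.sum_add_distrib]
  have hd_mono : ∀ (n : ℕ) (a : R), d (π ^ n * a ^ p) = t n a := by
    intro n a
    have hlt : n % p < p := Nat.mod_lt _ hp.pos
    have hcn : c (π ^ n * a ^ p) = Pi.single ⟨n % p, hlt⟩ (π ^ (n / p) * a) := (huniq _ _ (by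
      rw [Finset.sum_eq_single (⟨n % p, hlt⟩ : Fin p)]
      · rw [Pi.single_eq_same, mul_pow, ← pow_mul, ← mul_assoc, ← pow_add,
          show n % p + n / p * p = n from Nat.mod_add_div' n p]
      · intro j _ hj
        rw [Pi.single_eq_of_ne hj, zero_pow hp.ne_zero, mul_zero]
      · exact fun hh => absurd (Finset.mem_univ _) hh)).symm
    simp only [d, hcn]
    rw [Finset.sum_eq_single (⟨n % p, hlt⟩ : Fin p)]
    · simp only [t, Pi.single_eq_same, CharP.cast_eq_mod R p n]
      rcases Nat.eq_zero_or_pos (n % p) with h0 | hpos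
      · simp [h0]
      · rw [mul_pow, ← pow_mul, mul_assoc, ← mul_assoc (π ^ (n % p - 1)), ← pow_add, mul_assoc]
        congr 3
        have := Nat.mod_add_div' n p
        omega
    · intro j _ hj
      simp [t, Pi.single_eq_of_ne hj, zero_pow hp.ne_zero]
    · exact fun hh => absurd (Finset.mem_univ _) hh
  let dl : R →ₗ[ℤ] R := (AddMonoidHom.mk' d hd_add).toIntLinearMap
  have hd_sum : ∀ (ι : Type) (S : Finset ι) (f : ι → R), d (∑ i ∈ S, f i) = ∑ i ∈ S, d (f i) :=
    fun ι S f => map_sum dl f S
  have hprod : ∀ (n m : ℕ) (a b : R),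
      t (n + m) (a * b) = π ^ n * a ^ p * t m b + π ^ m * b ^ p * t n a := by
    intro n m a b
    rcases n with _ | n
    · simp only [t, Nat.cast_zero, zero_mul, mul_zero, add_zero, zero_add, pow_zero, one_mul]; ring
    rcases m with _ | m
    · simp only [t, Nat.cast_zero, zero_mul, mul_zero, zero_add, add_zero, pow_zero, one_mul]; ring
    simp only [t, show n + 1 + (m + 1) - 1 = n + m + 1 by omega, Nat.add_sub_cancel]
    push_cast
    ring
  have hleib : ∀ r s : R, d (r * s) = r • d s + s • d r := by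
    intro r s
    have hs' : d s = ∑ j : Fin p, t j (c s j) := rfl
    have hr' : d r = ∑ i : Fin p, t i (c r i) := rfl
    rw [smul_eq_mul, smul_eq_mul]
    conv_rhs => rw [hs', hr']; lhs; lhs; rw [hc r]
    conv_rhs => rhs; lhs; rw [hc s]
    conv_lhs => rw [hc r, hc s, Finset.sum_mul_sum, hd_sum]
    simp only [hd_sum, Finset.sum_mul, Finset.mul_sum]
    rw [Finset.sum_comm (f := fun (j : Fin p) (i : Fin p) => π ^ (i : ℕ) * c r i ^ p * t j (c s j))]
    rw [← Finset.sum_add_distrib]
    refine Finset.sum_congr rfl fun i _ => ?_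
    rw [← Finset.sum_add_distrib]
    refine Finset.sum_congr rfl fun j _ => ?_
    rw [show π ^ (i : ℕ) * c r i ^ p * (π ^ (j : ℕ) * c s j ^ p) =
      π ^ ((i : ℕ) + j) * (c r i * c s j) ^ p by ring, hd_mono, hprod]
  let δ : Derivation ℤ R R := Derivation.mk' dl hleib
  let φ := δ.liftKaehlerDifferential
  have hφ : φ (KaehlerDifferential.D ℤ R π) = 1 := by
    rw [Derivation.liftKaehlerDifferential_comp_D]
    show d π = 1
    have := hd_mono 1 1
    simpa [t] using this
  refine ⟨fun a b hab => ?_, fun w => ?_⟩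
  · have := congrArg φ hab
    simpa [map_smul, hφ] using this
  · have hw : w ∈ Submodule.span R {KaehlerDifferential.D ℤ R π} := by
      suffices Submodule.span R (Set.range (KaehlerDifferential.D ℤ R)) ≤
          Submodule.span R {KaehlerDifferential.D ℤ R π} from
        this ((KaehlerDifferential.span_range_derivation ℤ R).ge (Submodule.mem_top (x := w)))
      refine Submodule.span_le.2 ?_
      rintro _ ⟨r, rfl⟩
      rw [hc r, map_sum]
      refine Submodule.sum_mem _ fun i _ => ?_
      have h0 : KaehlerDifferential.D ℤ R (c r i ^ p) = 0 := by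
        rw [Derivation.leibniz_pow, ← Nat.cast_smul_eq_nsmul R p, CharP.cast_eq_zero, zero_smul]
      rw [Derivation.leibniz, h0, smul_zero, zero_add, Derivation.leibniz_pow]
      exact Submodule.smul_mem _ _ (Submodule.smul_of_tower_mem _ _
        (Submodule.smul_mem _ _ (Submodule.mem_span_singleton_self _)))
    obtain ⟨a, ha⟩ := Submodule.mem_span_singleton.1 hw
    exact ⟨a, ha⟩

end Groth.Agent.PBasisDVR
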